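import Cfsg.Agent.H896.Rad23.Norm
import Cfsg.Agent.H483.Rad23.Base
import Cfsg.Agent.TwoFusion.SLTwoFacts
import Cfsg.Agent.SignalizersComponents.Components
import Cfsg.Agent.H363.PslCard

/-!
# The row `PSL₃(F)`, automorphisms of order two (helper896, task 1535)
-/

set_option autoImplicit false
set_option linter.unusedSectionVars false

namespace Cfsg.Agent.H896.Rad23

open Matrix Cfsg Cfsg.Agent.H459.Rad Cfsg.Agent.H459.Iface
open Cfsg.Agent.ClassicalGeometry.AutPSL.Root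
open Cfsg.Agent.ClassicalGeometry.AutPSL.Auto
open Cfsg.Agent.ClassicalGeometry.AutPSL.Main
open Cfsg.Agent.Cit.FourL Cfsg.Agent.H483.Rad23

/-! ### The block `SL₂(F)` -/

section Blk

variable {F : Type} [Field F]

/-- the block on the first two coordinates -/
def blk : SpecialLinearGroup (Fin 2) F →* SpecialLinearGroup (Fin 3) F where
  toFun g := ⟨!![g.1 0 0, g.1 0 1, 0; g.1 1 0, g.1 1 1, 0; 0, 0, 1], by
    have h := g.2
    rw [det_fin_two] at h
    rw [det_fin_three]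
    simp
    linear_combination h⟩
  map_one' := by
    apply Subtype.ext
    ext i j
    fin_cases i <;> fin_cases j <;> simp
  map_mul' g h := by
    apply Subtype.ext
    change !![(g.1 * h.1) 0 0, (g.1 * h.1) 0 1, 0; (g.1 * h.1) 1 0, (g.1 * h.1) 1 1, 0; 0, 0, 1] =
      !![g.1 0 0, g.1 0 1, 0; g.1 1 0, g.1 1 1, 0; 0, 0, 1] * !![h.1 0 0, h.1 0 1, 0; h.1 1 0, h.1 1 1, 0; 0, 0, 1]
    ext i j
    fin_cases i <;> fin_cases j <;> simp [Matrix.mul_apply, Fin.sum_univ_three, Fin.sum_univ_two]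

theorem blk_val (g : SpecialLinearGroup (Fin 2) F) :
    (blk g).1 = !![g.1 0 0, g.1 0 1, 0; g.1 1 0, g.1 1 1, 0; 0, 0, 1] := rfl

theorem blk_inj {g h : SpecialLinearGroup (Fin 2) F} (hgh : blk g = blk h) : g = h := by
  have h1 := congrArg Subtype.val hgh
  rw [blk_val, blk_val] at h1
  apply Subtype.ext
  ext i j
  fin_cases i <;> fin_cases j
  · exact congrFun (congrFun h1 0) 0
  · exact congrFun (congrFun h1 0) 1
  · exact congrFun (congrFun h1 1) 0
  · exact congrFun (congrFun h1 1) 1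

theorem blk_eq_of_pr {g h : SpecialLinearGroup (Fin 2) F}
    (hgh : (pr (blk g) : ProjectiveSpecialLinearGroup (Fin 3) F) = pr (blk h)) : blk g = blk h := by
  obtain ⟨c, hc⟩ := exists_smul_of_pr_eq hgh
  have h1 : (1 : F) = c * 1 := congrFun (congrFun hc 2) 2
  rw [mul_one] at h1
  rw [← h1, one_smul] at hc
  exact (Subtype.ext hc).symm

theorem prblk_inj : Function.Injective (pr.comp (blk (F := F)) :
    SpecialLinearGroup (Fin 2) F →* ProjectiveSpecialLinearGroup (Fin 3) F) :=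
  fun _ _ h => blk_inj (blk_eq_of_pr h)

/-- the block in `PSL₃(F)` -/
def Mb (F : Type) [Field F] : Subgroup (ProjectiveSpecialLinearGroup (Fin 3) F) := (pr.comp (blk (F := F))).range

theorem Mb_ne : Mb F ≠ ⊤ := by
  intro h
  have h1 : pr (SpecialLinearGroup.transvection (i := (0 : Fin 3)) (j := 2) (by decide) (1 : F)) ∈ Mb F := by
    rw [h]; trivial
  obtain ⟨g, hg⟩ := h1
  obtain ⟨c, hc⟩ := exists_smul_of_pr_eq hg
  have h2 : (SpecialLinearGroup.transvection (i := (0 : Fin 3)) (j := 2) (by decide) (1 : F)).1 =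
      1 + single 0 2 1 := rfl
  rw [h2, blk_val] at hc
  have h3 := congrFun (congrFun hc 0) 2
  simp at h3

variable [Fintype F]

theorem Mb_qs (h3 : 3 < Fintype.card F) : IsQuasisimple (Mb F) :=
  Cfsg.Agent.SignalizersComponents.Components.isQuasisimple_of_mulEquiv
    (MonoidHom.ofInjective (prblk_inj (F := F)))
    ⟨Group.isPerfect_def.2 (TwoFusion.SLTwoFacts.commutator_eq_top h3), TwoFusion.SLTwoFacts.isSimpleGroup_psl h3⟩

/-- **an automorphism normalising the block fixes it** -/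
theorem fix_blk (h3 : 3 < Fintype.card F) {ψ : MulAut (SpecialLinearGroup (Fin 3) F)} (hR : RC (lift ψ))
    (hψ : ∀ g, ∃ g', ψ (blk g) = blk g') (g : SpecialLinearGroup (Fin 2) F) : ψ (blk g) = blk g := by
  have h1 := hR.eq_of_quasisimple (M := Mb F) Mb_ne (by
    rintro _ ⟨g, rfl⟩
    obtain ⟨g', hg'⟩ := hψ g
    exact ⟨g', by
      change pr (blk g') = lift ψ (pr (blk g))
      rw [lift_pr, hg']⟩) (Mb_qs h3) (m := pr (blk g)) ⟨g, rfl⟩
  rw [lift_pr] at h1
  obtain ⟨g', hg'⟩ := hψ g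
  rw [hg'] at h1 ⊢
  exact blk_eq_of_pr h1

/-- upper unitriangular -/
def up (c : F) : SpecialLinearGroup (Fin 2) F := ⟨!![1, c; 0, 1], by simp⟩
/-- lower unitriangular -/
def lo (c : F) : SpecialLinearGroup (Fin 2) F := ⟨!![1, 0; c, 1], by simp⟩

/-- **no radical automorphism in normal form for `q ≥ 4`** -/
theorem nf_false (h3 : 3 < Fintype.card F) {α : MulAut (ProjectiveSpecialLinearGroup (Fin 3) F)} (hN : NF α)
    (hR : RC α) : False := by
  rcases hN with ⟨σ, ⟨c, hc⟩, -, rfl⟩ | ⟨h2, rfl⟩ | ⟨h2, rfl⟩ | ⟨D, σ, hD, hσ, rfl⟩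
  · -- field
    have h1 := fix_blk h3 hR (fun g => ⟨fld σ g, by
      apply Subtype.ext
      ext i j
      rw [coe_fld_apply, blk_val, blk_val]
      fin_cases i <;> fin_cases j <;> simp [coe_fld_apply]⟩) (up c)
    have h4 := congrFun (congrFun (congrArg Subtype.val h1) 0) 1
    rw [coe_fld_apply, blk_val] at h4
    exact hc (by simpa [up] using h4)
  · -- inner, odd
    rw [conj_pr] at hR
    have key : ∀ (g g' : SpecialLinearGroup (Fin 2) F), g'.1 = !![g.1 0 0, - g.1 0 1; - g.1 1 0, g.1 1 1] →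
        CitLFactSL.ww F * blk g = blk g' * CitLFactSL.ww F := by
      intro g g' hg'
      have hm : (CitLFactSL.ww F).1 * (blk g).1 = (blk g').1 * (CitLFactSL.ww F).1 := by
        rw [blk_val, blk_val, CitLFactSL.ww_val, hg']
        ext i j
        fin_cases i <;> fin_cases j <;> simp [Matrix.mul_apply, Fin.sum_univ_three, diagonal_apply]
      exact Subtype.ext hm
    have h1 := fix_blk h3 hR (fun g => ⟨⟨!![g.1 0 0, - g.1 0 1; - g.1 1 0, g.1 1 1], by
      have h := g.2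
      rw [det_fin_two] at h
      rw [det_fin_two]
      simp
      linear_combination h⟩, by
      rw [MulAut.conj_apply, mul_inv_eq_iff_eq_mul]
      exact key g _ rfl⟩) (up 1)
    rw [MulAut.conj_apply, mul_inv_eq_iff_eq_mul] at h1
    have h4 : ((CitLFactSL.ww F).1 * (blk (up (1 : F))).1) 0 1 = ((blk (up (1 : F))).1 * (CitLFactSL.ww F).1) 0 1 :=
      congrFun (congrFun (congrArg Subtype.val h1) 0) 1
    rw [blk_val, CitLFactSL.ww_val] at h4
    simp [Matrix.mul_apply, Fin.sum_univ_three, diagonal_apply, up] at h4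
    exact h2 (by linear_combination h4)
  · -- inner, even
    have ht : SpecialLinearGroup.transvection (i := (0 : Fin 3)) (j := 1) (by decide) (1 : F) = blk (up 1) := by
      apply Subtype.ext
      have h2 : (SpecialLinearGroup.transvection (i := (0 : Fin 3)) (j := 1) (by decide) (1 : F)).1 =
        1 + single 0 1 1 := rfl
      rw [h2, blk_val]
      ext i j
      fin_cases i <;> fin_cases j <;> simp [up]
    rw [ht, conj_pr] at hR
    have h1 := fix_blk h3 hR (fun g => ⟨up 1 * g * (up 1)⁻¹, by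
      rw [MulAut.conj_apply, map_mul, map_mul, map_inv]⟩) (lo 1)
    rw [MulAut.conj_apply, ← map_inv, ← map_mul, ← map_mul] at h1
    have h4 := blk_inj h1
    rw [mul_inv_eq_iff_eq_mul] at h4
    have h5 : ((up (1 : F)).1 * (lo (1 : F)).1) 0 0 = ((lo (1 : F)).1 * (up (1 : F)).1) 0 0 :=
      congrFun (congrFun (congrArg Subtype.val h4) 0) 0
    simp [up, lo, Matrix.mul_apply, Fin.sum_univ_two] at h5
  · -- graph
    obtain ⟨d, hd⟩ : ∃ d : Fin 3 → F, (D : M3 F) = diagonal d := by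
      refine ⟨fun i => (D : M3 F) i i, ?_⟩
      ext i j
      by_cases hij : i = j
      · subst hij; rw [diagonal_apply_eq]
      · rw [diagonal_apply_ne _ hij, hD i j hij]
    have hd0 : ∀ i, d i ≠ 0 := by
      intro i hi
      apply gl_det_ne D
      rw [hd, det_diagonal]
      exact Finset.prod_eq_zero (Finset.mem_univ i) hi
    have key : ∀ (g g' : SpecialLinearGroup (Fin 2) F), g'.1 = !![σ (g.1 1 1), - σ (g.1 1 0) * (d 0 / d 1);
        - σ (g.1 0 1) * (d 1 / d 0), σ (g.1 0 0)] → (cj D * fld σ * itr : MulAut _) (blk g) = blk g' := by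
      intro g g' hg'
      have hinv : ((blk g)⁻¹).1 = !![g.1 1 1, - g.1 0 1, 0; - g.1 1 0, g.1 0 0, 0; 0, 0, 1] := by
        rw [← map_inv, blk_val]
        ext i j
        fin_cases i <;> fin_cases j <;> simp [SpecialLinearGroup.coe_inv, adjugate_fin_two]
      have h1 : (cj D * fld σ * itr : MulAut _) (blk g) = cj D (fld σ (itr (blk g))) := rfl
      have h2 : (fld σ (itr (blk g))).1 = !![σ (g.1 1 1), - σ (g.1 1 0), 0; - σ (g.1 0 1), σ (g.1 0 0), 0; 0, 0, 1] := by
        ext i j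
        rw [coe_fld_apply, coe_itr, hinv]
        fin_cases i <;> fin_cases j <;> simp
      rw [h1]
      apply Subtype.ext
      rw [coe_cj]
      have h4 : (D : M3 F) * (fld σ (itr (blk g))).1 = (blk g').1 * (D : M3 F) := by
        rw [h2, blk_val, hd, hg']
        have a0 := hd0 0
        have a1 := hd0 1
        ext i j
        fin_cases i <;> fin_cases j <;>
          simp [Matrix.mul_apply, Fin.sum_univ_three, diagonal_apply] <;> field_simp
      rw [h4, mul_assoc, ← Units.val_mul, mul_inv_cancel, Units.val_one, mul_one]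
    have h1 := fix_blk h3 hR (fun g => ⟨⟨_, by
      have h := g.2
      rw [det_fin_two] at h
      have a0 := hd0 0
      have a1 := hd0 1
      have h6 := congrArg σ h
      rw [map_sub, map_mul, map_mul, map_one] at h6
      have : (!![σ (g.1 1 1), - σ (g.1 1 0) * (d 0 / d 1);
        - σ (g.1 0 1) * (d 1 / d 0), σ (g.1 0 0)] : Matrix (Fin 2) (Fin 2) F).det = 1 := by
        rw [det_fin_two]
        simp only [of_apply, cons_val', cons_val_zero, cons_val_one, cons_val_fin_one]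
        field_simp
        linear_combination h6
      exact this⟩, key g _ rfl⟩) (up 1)
    rw [key (up 1) ⟨!![1, 0; - (d 1 / d 0), 1], by simp⟩ (by
      ext i j
      fin_cases i <;> fin_cases j <;> simp [up])] at h1
    have h4 := blk_inj h1
    have h5 := congrFun (congrFun (congrArg Subtype.val h4) 0) 1
    simp [up] at h5

end Blk

/-! ### `q = 2, 3` -/

section Small

/-- a polarity inverting a self-adjoint element -/
theorem graph_inv {F : Type} [Field F] {D : GL (Fin 3) F} {y : SpecialLinearGroup (Fin 3) F}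
    (h : y.1 * (D : M3 F) = (D : M3 F) * y.1ᵀ) : (cj D * fld 1 * itr : MulAut _) y = y⁻¹ := by
  rw [map_one fld, mul_one]
  have h1 : (cj D * itr : MulAut _) y = cj D (itr y) := rfl
  rw [h1]
  have e1 : (y⁻¹).1 * y.1 = 1 := congrArg Subtype.val (inv_mul_cancel y)
  have e2 : y.1ᵀ * ((y⁻¹).1)ᵀ = 1 := by rw [← transpose_mul, e1, transpose_one]
  have h2 : (D : M3 F) * ((y⁻¹).1)ᵀ = (y⁻¹).1 * (D : M3 F) := by
    calc (D : M3 F) * ((y⁻¹).1)ᵀ = (y⁻¹).1 * (y.1 * (D : M3 F)) * ((y⁻¹).1)ᵀ := by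
          rw [← mul_assoc, e1, one_mul]
      _ = (y⁻¹).1 * ((D : M3 F) * y.1ᵀ) * ((y⁻¹).1)ᵀ := by rw [h]
      _ = (y⁻¹).1 * (D : M3 F) * (y.1ᵀ * ((y⁻¹).1)ᵀ) := by simp only [mul_assoc]
      _ = _ := by rw [e2, mul_one]
  have h3 : (D : M3 F) * ((y⁻¹).1)ᵀ * ((D⁻¹ : GL (Fin 3) F) : M3 F) = (y⁻¹).1 := by
    rw [h2, mul_assoc, ← Units.val_mul, mul_inv_cancel, Units.val_one, mul_one]
  exact Subtype.ext h3

theorem pr_ne {F : Type} [Field F] {y : SpecialLinearGroup (Fin 3) F} (h : ∀ c : F, y.1 ≠ c • (1 : M3 F)) :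
    (pr y : ProjectiveSpecialLinearGroup (Fin 3) F) ≠ 1 := by
  intro h1
  obtain ⟨c, hc⟩ := exists_smul_of_pr_eq ((map_one pr).trans h1.symm)
  exact h c hc

/-- polarities -/
theorem graph_false {F : Type} [Field F] [Fintype F] {D : GL (Fin 3) F}
    (hc : Subgroup.center (ProjectiveSpecialLinearGroup (Fin 3) F) = ⊥)
    {y : SpecialLinearGroup (Fin 3) F} (h : y.1 * (D : M3 F) = (D : M3 F) * y.1ᵀ) {l : ℕ} (hl : l.Prime) (h5 : 5 ≤ l)
    (hy : y ^ l = 1) (hy1 : ∀ c : F, y.1 ≠ c • (1 : M3 F)) (hT : TT (lift (cj D * fld 1 * itr))) : False := by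
  have : Fact l.Prime := ⟨hl⟩
  refine hT.no_inv hc hl h5 (y := pr y) (orderOf_eq_prime (by rw [← map_pow, hy, map_one]) (pr_ne hy1)) ?_
  rw [lift_pr, graph_inv h, map_inv]

theorem diag_of {F : Type} [Field F] {D : GL (Fin 3) F} (hD : ∀ i j, i ≠ j → (D : M3 F) i j = 0) :
    ∃ d : Fin 3 → F, (D : M3 F) = diagonal d ∧ ∀ i, d i ≠ 0 := by
  obtain ⟨d, hd⟩ : ∃ d : Fin 3 → F, (D : M3 F) = diagonal d := by
    refine ⟨fun i => (D : M3 F) i i, ?_⟩
    ext i j
    by_cases hij : i = j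
    · subst hij; rw [diagonal_apply_eq]
    · rw [diagonal_apply_ne _ hij, hD i j hij]
  refine ⟨d, hd, fun i hi => ?_⟩
  apply gl_det_ne D
  rw [hd, det_diagonal]
  exact Finset.prod_eq_zero (Finset.mem_univ i) hi

abbrev S2 := SpecialLinearGroup (Fin 3) (ZMod 2)

def t2 : S2 := ⟨!![1, 1, 0; 0, 1, 0; 0, 0, 1], by decide +kernel⟩
def g2 : S2 := ⟨!![0, 0, 1; 1, 0, 1; 1, 1, 0], by decide +kernel⟩
def k2 : S2 := ⟨!![0, 1, 1; 1, 0, 1; 0, 1, 0], by decide +kernel⟩

theorem t2_sq : t2 * t2 = 1 := by decide +kernel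
theorem t2_ne : ∀ c : ZMod 2, t2.1 ≠ c • (1 : M3 (ZMod 2)) := by decide +kernel
theorem e21 : (t2 * (g2 * t2 * g2⁻¹)) ^ 3 = 1 := by decide +kernel
theorem e22 : (g2 * t2 * g2⁻¹ * (k2 * t2 * k2⁻¹)) ^ 3 = 1 := by decide +kernel
theorem e23 : (t2 * (g2 * t2 * g2⁻¹) * (k2 * t2 * k2⁻¹)) ^ 7 = 1 := by decide +kernel
theorem t2_eq : SpecialLinearGroup.transvection (i := (0 : Fin 3)) (j := 1) (by decide) (1 : ZMod 2) = t2 := by
  decide +kernel

theorem y2 : ∀ d0 d1 d2 : ZMod 2, d0 ≠ 0 → d1 ≠ 0 → d2 ≠ 0 → ∃ y : S2,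
    y.1 * diagonal ![d0, d1, d2] = diagonal ![d0, d1, d2] * y.1ᵀ ∧ y ^ 7 = 1 ∧ ∀ c : ZMod 2, y.1 ≠ c • (1 : M3 (ZMod 2)) := by
  intro d0 d1 d2 h0 h1 h2
  have key : ∀ z : ZMod 2, z ≠ 0 → z = 1 := by decide
  obtain rfl := key d0 h0
  obtain rfl := key d1 h1
  obtain rfl := key d2 h2
  exact ⟨⟨!![0, 0, 1; 0, 1, 1; 1, 1, 0], by decide +kernel⟩, by decide +kernel, by decide +kernel, by decide +kernel⟩

abbrev S3 := SpecialLinearGroup (Fin 3) (ZMod 3)

def w3 : S3 := ⟨!![1, 0, 0; 0, 2, 0; 0, 0, 2], by decide +kernel⟩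
def g3 : S3 := ⟨!![2, 0, 2; 2, 1, 1; 0, 0, 2], by decide +kernel⟩
def k3 : S3 := ⟨!![0, 0, 2; 0, 1, 1; 1, 2, 0], by decide +kernel⟩

theorem w3_sq : w3 * w3 = 1 := by decide +kernel
theorem w3_ne : ∀ c : ZMod 3, w3.1 ≠ c • (1 : M3 (ZMod 3)) := by decide +kernel
theorem e31 : (w3 * (g3 * w3 * g3⁻¹)) ^ 3 = 1 := by decide +kernel
theorem e32 : (g3 * w3 * g3⁻¹ * (k3 * w3 * k3⁻¹)) ^ 3 = 1 := by decide +kernel
theorem e33 : (w3 * (g3 * w3 * g3⁻¹) * (k3 * w3 * k3⁻¹)) ^ 13 = 1 := by decide +kernel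
theorem w3_eq : CitLFactSL.ww (ZMod 3) = w3 := by
  apply Subtype.ext
  rw [CitLFactSL.ww_val]
  decide +kernel

theorem y3 : ∀ d0 d1 d2 : ZMod 3, d0 ≠ 0 → d1 ≠ 0 → d2 ≠ 0 → ∃ y : S3,
    y.1 * diagonal ![d0, d1, d2] = diagonal ![d0, d1, d2] * y.1ᵀ ∧ y ^ 13 = 1 ∧ ∀ c : ZMod 3, y.1 ≠ c • (1 : M3 (ZMod 3)) := by
  intro d0 d1 d2 h0 h1 h2
  have key : ∀ z : ZMod 3, z ≠ 0 → z = 1 ∨ z = 2 := by decide
  rcases key d0 h0 with rfl | rfl <;> rcases key d1 h1 with rfl | rfl <;> rcases key d2 h2 with rfl | rfl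
  · exact ⟨⟨!![0, 0, 1; 0, 2, 1; 1, 1, 0], by decide +kernel⟩, by decide +kernel, by decide +kernel, by decide +kernel⟩
  · exact ⟨⟨!![0, 0, 2; 0, 1, 2; 1, 1, 0], by decide +kernel⟩, by decide +kernel, by decide +kernel, by decide +kernel⟩
  · exact ⟨⟨!![0, 0, 1; 0, 2, 1; 1, 2, 0], by decide +kernel⟩, by decide +kernel, by decide +kernel, by decide +kernel⟩
  · exact ⟨⟨!![0, 0, 2; 0, 1, 2; 1, 2, 2], by decide +kernel⟩, by decide +kernel, by decide +kernel, by decide +kernel⟩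
  · exact ⟨⟨!![0, 0, 1; 0, 1, 1; 2, 1, 1], by decide +kernel⟩, by decide +kernel, by decide +kernel, by decide +kernel⟩
  · exact ⟨⟨!![0, 0, 2; 0, 2, 2; 2, 1, 0], by decide +kernel⟩, by decide +kernel, by decide +kernel, by decide +kernel⟩
  · exact ⟨⟨!![0, 0, 1; 0, 1, 1; 2, 2, 0], by decide +kernel⟩, by decide +kernel, by decide +kernel, by decide +kernel⟩
  · exact ⟨⟨!![0, 0, 2; 0, 2, 2; 2, 2, 0], by decide +kernel⟩, by decide +kernel, by decide +kernel, by decide +kernel⟩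

theorem vec_eq {F : Type} (d : Fin 3 → F) : d = ![d 0, d 1, d 2] := by
  funext i
  fin_cases i <;> rfl

theorem nf_false_two (hc : Subgroup.center (ProjectiveSpecialLinearGroup (Fin 3) (ZMod 2)) = ⊥)
    {α : MulAut (ProjectiveSpecialLinearGroup (Fin 3) (ZMod 2))} (hN : NF α)
    (hP : PS 4 α) (hT : TT α) : False := by
  rcases hN with ⟨σ, ⟨c, h⟩, -, rfl⟩ | ⟨h2, rfl⟩ | ⟨h2, rfl⟩ | ⟨D, σ, hD, hσ, rfl⟩
  · have hσ : σ = 1 := Subsingleton.elim _ _
    exact h (by rw [hσ]; rfl)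
  · exact h2 (by decide)
  · rw [t2_eq] at hP
    refine false_of_three hc ?_ (pr_ne t2_ne) hP (pr g2) (pr k2) (l := 3) (m := 3) (n := 7) ?_ ?_ ?_
      (by decide) (by decide) (by decide)
    · rw [← map_mul, t2_sq, map_one]
    · rw [← map_inv, ← map_mul, ← map_mul, ← map_mul, ← map_pow, e21, map_one]
    · rw [← map_inv, ← map_inv, ← map_mul, ← map_mul, ← map_mul, ← map_mul, ← map_mul, ← map_pow, e22, map_one]
    · rw [← map_inv, ← map_inv, ← map_mul, ← map_mul, ← map_mul, ← map_mul, ← map_mul, ← map_mul, ← map_pow, e23, map_one]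
  · have hσ : σ = 1 := Subsingleton.elim _ _
    subst hσ
    obtain ⟨d, hd, hd0⟩ := diag_of hD
    obtain ⟨y, h1, h2, h3⟩ := y2 (d 0) (d 1) (d 2) (hd0 0) (hd0 1) (hd0 2)
    rw [← vec_eq d, ← hd] at h1
    exact graph_false hc h1 (by norm_num) (by norm_num) h2 h3 hT

theorem nf_false_three (hc : Subgroup.center (ProjectiveSpecialLinearGroup (Fin 3) (ZMod 3)) = ⊥)
    {α : MulAut (ProjectiveSpecialLinearGroup (Fin 3) (ZMod 3))} (hN : NF α)
    (hP : PS 4 α) (hT : TT α) : False := by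
  rcases hN with ⟨σ, ⟨c, h⟩, -, rfl⟩ | ⟨h2, rfl⟩ | ⟨h2, rfl⟩ | ⟨D, σ, hD, hσ, rfl⟩
  · have hσ : σ = 1 := Subsingleton.elim _ _
    exact h (by rw [hσ]; rfl)
  · rw [w3_eq] at hP
    refine false_of_three hc ?_ (pr_ne w3_ne) hP (pr g3) (pr k3) (l := 3) (m := 3) (n := 13) ?_ ?_ ?_
      (by decide) (by decide) (by decide)
    · rw [← map_mul, w3_sq, map_one]
    · rw [← map_inv, ← map_mul, ← map_mul, ← map_mul, ← map_pow, e31, map_one]
    · rw [← map_inv, ← map_inv, ← map_mul, ← map_mul, ← map_mul, ← map_mul, ← map_mul, ← map_pow, e32, map_one]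
    · rw [← map_inv, ← map_inv, ← map_mul, ← map_mul, ← map_mul, ← map_mul, ← map_mul, ← map_mul, ← map_pow, e33, map_one]
  · exact absurd h2 (by decide)
  · have hσ : σ = 1 := Subsingleton.elim _ _
    subst hσ
    obtain ⟨d, hd, hd0⟩ := diag_of hD
    obtain ⟨y, h1, h2, h3⟩ := y3 (d 0) (d 1) (d 2) (hd0 0) (hd0 1) (hd0 2)
    rw [← vec_eq d, ← hd] at h1
    exact graph_false hc h1 (by norm_num) (by norm_num) h2 h3 hT

end Small

/-! ### The row -/

theorem center_bot {F : Type} [Field F] [Fintype F] (hs : IsSimpleGroup (ProjectiveSpecialLinearGroup (Fin 3) F)) :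
    Subgroup.center (ProjectiveSpecialLinearGroup (Fin 3) F) = ⊥ := by
  rcases (inferInstance : (Subgroup.center (ProjectiveSpecialLinearGroup (Fin 3) F)).Normal).eq_bot_or_eq_top with h | h
  · exact h
  · exfalso
    have h1 : ∀ a b : ProjectiveSpecialLinearGroup (Fin 3) F, a * b = b * a := by
      intro a b
      have ha : a ∈ Subgroup.center (ProjectiveSpecialLinearGroup (Fin 3) F) := by rw [h]; trivial
      exact (Subgroup.mem_center_iff.1 ha b).symm
    have h2 := h1 (pr (blk (up 1))) (pr (blk (lo 1)))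
    rw [← map_mul, ← map_mul, ← map_mul, ← map_mul] at h2
    have h3 := blk_inj (blk_eq_of_pr h2)
    have h5 : ((up (1 : F)).1 * (lo (1 : F)).1) 0 0 = ((lo (1 : F)).1 * (up (1 : F)).1) 0 0 :=
      congrFun (congrFun (congrArg Subtype.val h3) 0) 0
    simp [up, lo, Matrix.mul_apply, Fin.sum_univ_two] at h5

theorem row2_core {F : Type} [Field F] [Fintype F] (hs : IsSimpleGroup (ProjectiveSpecialLinearGroup (Fin 3) F))
    (hNF : ∀ α : MulAut (ProjectiveSpecialLinearGroup (Fin 3) F), NF α → RC α → PS 4 α → TT α → False) :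
    Row23 2 (ProjectiveSpecialLinearGroup (Fin 3) F) := by
  intro x hx hR hP hT
  have hx2 : x * x = 1 := by
    rw [← pow_two, ← hx, pow_orderOf_eq_one]
  have hx1 : x ≠ 1 := by
    rintro rfl
    rw [orderOf_one] at hx
    omega
  obtain ⟨β, hβ⟩ := norm_form hx2 hx1
  have htr : H459.Rad.tr β x = β * x * β⁻¹ := by
    apply MulEquiv.ext
    intro g
    rw [tr_apply]
    rfl
  rw [← htr] at hβ
  exact hNF _ hβ (hR.tr β) (hP.tr β) (hT.tr β)

/-- **the row `PSL₃(q)`, automorphisms of order two** -/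
theorem row2_psl3 {K : Type*} [Group K] [Finite K] [IsSimpleGroup K] {F : Type} [Field F] [Fintype F]
    (e : Nonempty (K ≃* Matrix.ProjectiveSpecialLinearGroup (Fin 3) F)) : Cfsg.Agent.H483.Rad23.Row23 2 K := by
  obtain ⟨e⟩ := e
  have h0 := Fintype.one_lt_card (α := F)
  by_cases h3 : 3 < Fintype.card F
  · have hs : IsSimpleGroup (ProjectiveSpecialLinearGroup (Fin 3) F) := e.isSimpleGroup_congr.1 inferInstance
    exact Row23.congr e (row2_core hs fun α hN hR _ _ => nf_false h3 hN hR)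
  · by_cases h2 : Fintype.card F = 2
    · obtain ⟨f⟩ := H363.PslCard.psl_of_card (n := Fin 3) (F := F) (F' := ZMod 2) (by rw [h2, ZMod.card])
      have hs : IsSimpleGroup (ProjectiveSpecialLinearGroup (Fin 3) (ZMod 2)) :=
        (e.trans f).isSimpleGroup_congr.1 inferInstance
      exact Row23.congr (e.trans f) (row2_core hs fun α hN _ hP hT => nf_false_two (center_bot hs) hN hP hT)
    · obtain ⟨f⟩ := H363.PslCard.psl_of_card (n := Fin 3) (F := F) (F' := ZMod 3)
        (by rw [show Fintype.card F = 3 by omega, ZMod.card])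
      have hs : IsSimpleGroup (ProjectiveSpecialLinearGroup (Fin 3) (ZMod 3)) :=
        (e.trans f).isSimpleGroup_congr.1 inferInstance
      exact Row23.congr (e.trans f) (row2_core hs fun α hN _ hP hT => nf_false_three (center_bot hs) hN hP hT)

end Cfsg.Agent.H896.Rad23
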